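import Cfsg.Agent.GpExc.Field
import Cfsg.Agent.KFacts.RgdChevCoord
import Cfsg.Agent.Nodes.LeviDec
import Mathlib.FieldTheory.Finite.GaloisField

/-!
# Chevalley groups over isomorphic fields: the root groups and the parabolic subgroups (S2465, `F₄(3)`)

* `iso hp σ : D.group F ≃* D.group K` for `σ : F ≃+* K`; `iso_xc`, `iso_hc` : `x_v(t) ↦ x_v(σ t)`, `h_i(t) ↦ h_i(σ t)`;
* `map_XX`, `map_TT`, `map_Sup`, `map_VJ`, `map_VNJ`, `map_UJ`, `map_UNJ`, `map_LJ`, `map_B`;
* `exists_equiv_three` : a field with three elements is `ZMod 3`.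
-/

set_option autoImplicit false
set_option linter.unusedSectionVars false

namespace Cfsg.Agent.H194.F43

open CoxeterSystem Cfsg.Agent.ChevalleyStructure.CoxeterGeom Cfsg.Agent.Tits.Roots Cfsg.Agent.Tits.Core
  Cfsg.Agent.Nodes.Reps Cfsg.Agent.Nodes.BNOf Cfsg.Agent.Nodes.Bruhat Cfsg.Agent.Nodes.LeviDec
open Cfsg.Lie Cfsg.Agent.ChevalleyStructure Cfsg.Agent.ChevalleyStructure.Elts
open Cfsg.Agent.Nodes Cfsg.Agent.Nodes.RGDChev Cfsg.Agent.KFacts.RgdChevCoord
open Cfsg.Agent.GpExc.Field (glMap coe_glMap glMap_xG glMap_mem glMap_injective glMap_hG glMap_nG glMap_diagonal emb coe_emb)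

universe u v

variable {F : Type u} {K : Type v} [Field F] [Field K]

theorem glMap_symm (D : ChevalleyDatum) (σ : F ≃+* K) (g : GL D.Idx F) :
    glMap D (σ.symm : K →+* F) (glMap D (σ : F →+* K) g) = g := by
  apply Units.ext
  rw [coe_glMap, coe_glMap]
  ext i j
  exact σ.symm_apply_apply _

section

variable {D : ChevalleyDatum} {l : ℕ} {M : CoxeterMatrix (Fin l)} (hp : IsType D l M) (σ : F ≃+* K)

/-- **the isomorphism of Chevalley groups over isomorphic fields** -/
noncomputable def iso : ↥(D.group F) ≃* ↥(D.group K) :=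
  { emb hp.inList (σ : F →+* K) with
    invFun := emb hp.inList (σ.symm : K →+* F)
    left_inv := fun g => Subtype.ext (glMap_symm D σ g.1)
    right_inv := fun g => Subtype.ext (glMap_symm D σ.symm g.1) }

theorem coe_iso (g : ↥(D.group F)) : ((iso hp σ g : ↥(D.group K)) : GL D.Idx K) = glMap D (σ : F →+* K) g := rfl

theorem iso_symm : (iso hp σ).symm = iso hp σ.symm := rfl

/-- `x_v(a) ↦ x_v(σ a)` -/
theorem iso_xc (x : Fin l → ℤ) (a : F) : iso hp σ (xc hp x a) = xc hp x (σ a) :=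
  Subtype.ext (glMap_xG hp.inList _ _ _)

theorem iso_hc (j : Fin l) (a : F) : iso hp σ (hc hp j a) = hc hp j (σ a) :=
  Subtype.ext (glMap_hG hp _ _ _)

theorem iso_xG (r : ℕ) (a : F) : iso hp σ ⟨xG hp.inList r a, xG_mem_group hp.inList _ a⟩ =
    ⟨xG hp.inList r (σ a), xG_mem_group hp.inList _ _⟩ :=
  Subtype.ext (glMap_xG hp.inList _ _ _)

include hp in
theorem map_rootSubgroup (r : ℕ) :
    (D.rootSubgroup F r).map (glMap D (σ : F →+* K)) = D.rootSubgroup K r := by
  ext g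
  rw [mem_rootSubgroup_iff hp.inList]
  constructor
  · rintro ⟨x, hx, rfl⟩
    rw [SetLike.mem_coe, mem_rootSubgroup_iff hp.inList] at hx
    obtain ⟨t, rfl⟩ := hx
    exact ⟨σ t, glMap_xG hp.inList _ _ _⟩
  · rintro ⟨t, rfl⟩
    refine ⟨xG hp.inList r (σ.symm t), (mem_rootSubgroup_iff hp.inList _ _).2 ⟨_, rfl⟩, ?_⟩
    rw [glMap_xG]
    congr 1
    exact σ.apply_symm_apply t

include hp in
theorem map_XV (x : Fin l → ℤ) : (XV D l F x).map (glMap D (σ : F →+* K)) = XV D l K x := by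
  unfold XV
  rw [Subgroup.map_iSup]
  exact iSup_congr fun r => map_rootSubgroup hp σ r.1

/-- **the root groups** -/
theorem map_XX (x : Fin l → ℤ) : (XX D l F x).map (iso hp σ).toMonoidHom = XX D l K x := by
  ext g
  constructor
  · rintro ⟨y, hy, rfl⟩
    rw [SetLike.mem_coe, Subgroup.mem_subgroupOf] at hy
    rw [Subgroup.mem_subgroupOf, ← map_XV hp σ x]
    exact ⟨y.1, hy, rfl⟩
  · intro hg
    rw [Subgroup.mem_subgroupOf, ← map_XV hp σ x] at hg
    obtain ⟨y, hy, e⟩ := hg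
    refine ⟨(iso hp σ).symm g, ?_, (iso hp σ).apply_symm_apply g⟩
    rw [SetLike.mem_coe, Subgroup.mem_subgroupOf]
    have h1 : (((iso hp σ).symm g : ↥(D.group F)) : GL D.Idx F) = y := by
      rw [iso_symm, coe_iso, ← e]
      exact glMap_symm D σ y
    rw [h1]
    exact hy

theorem mem_XX_iff {x : Fin l → ℤ} {g : ↥(D.group F)} : iso hp σ g ∈ XX D l K x ↔ g ∈ XX D l F x := by
  rw [← map_XX hp σ x]
  exact Subgroup.mem_map_iff_mem (iso hp σ).injective

/-- **the torus** -/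
theorem map_TT : (TT D F).map (iso hp σ).toMonoidHom = TT D K := by
  ext g
  constructor
  · rintro ⟨y, hy, rfl⟩
    exact glMap_diagonal hp (σ : F →+* K) hy
  · intro hg
    exact ⟨(iso hp σ).symm g, glMap_diagonal hp (σ.symm : K →+* F) hg, (iso hp σ).apply_symm_apply g⟩

theorem mem_TT_iff {g : ↥(D.group F)} : iso hp σ g ∈ TT D K ↔ g ∈ TT D F := by
  rw [← map_TT hp σ]
  exact Subgroup.mem_map_iff_mem (iso hp σ).injective

/-- **products of root groups** -/
theorem map_Sup (S : Set (Fin l → ℤ)) :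
    (RGD.Sup (XX D l F) S).map (iso hp σ).toMonoidHom = RGD.Sup (XX D l K) S := by
  unfold RGD.Sup
  rw [Subgroup.map_iSup]
  exact iSup_congr fun z => map_XX hp σ z.1

theorem mem_Sup_iff {S : Set (Fin l → ℤ)} {g : ↥(D.group F)} :
    iso hp σ g ∈ RGD.Sup (XX D l K) S ↔ g ∈ RGD.Sup (XX D l F) S := by
  rw [← map_Sup hp σ S]
  exact Subgroup.mem_map_iff_mem (iso hp σ).injective

variable {W : Type*} [Group W] (cs : CoxeterSystem M W) (J : Set (Fin l))

theorem map_VJ : (VJ cs hp.isCartan (XX D l F) J).map (iso hp σ).toMonoidHom = VJ cs hp.isCartan (XX D l K) J :=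
  map_Sup hp σ _

theorem map_VNJ : (VNJ cs hp.isCartan (XX D l F) J).map (iso hp σ).toMonoidHom = VNJ cs hp.isCartan (XX D l K) J :=
  map_Sup hp σ _

theorem map_UJ : (UJ cs hp.isCartan (XX D l F) J).map (iso hp σ).toMonoidHom = UJ cs hp.isCartan (XX D l K) J :=
  map_Sup hp σ _

theorem map_LJ : (LJ cs hp.isCartan (TT D F) (XX D l F) J).map (iso hp σ).toMonoidHom =
    LJ cs hp.isCartan (TT D K) (XX D l K) J := by
  unfold LJ
  rw [Subgroup.map_sup, map_Sup hp σ, map_TT hp σ]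

theorem map_PJ : (PJ cs hp.isCartan (TT D F) (XX D l F) J).map (iso hp σ).toMonoidHom =
    PJ cs hp.isCartan (TT D K) (XX D l K) J := by
  unfold PJ
  rw [Subgroup.map_sup, map_LJ hp σ, map_VJ hp σ]

theorem map_PNJ : (PNJ cs hp.isCartan (TT D F) (XX D l F) J).map (iso hp σ).toMonoidHom =
    PNJ cs hp.isCartan (TT D K) (XX D l K) J := by
  unfold PNJ
  rw [Subgroup.map_sup, map_LJ hp σ, map_VNJ hp σ]

theorem map_B : (RGD.B cs hp.isCartan (TT D F) (XX D l F)).map (iso hp σ).toMonoidHom =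
    RGD.B cs hp.isCartan (TT D K) (XX D l K) := by
  unfold RGD.B
  rw [Subgroup.map_sup, map_Sup hp σ, map_TT hp σ]

end

/-- a field with three elements -/
theorem exists_equiv_three (K : Type u) [Field K] (hK : Nat.card K = 3) : Nonempty (K ≃+* ZMod 3) := by
  have : Finite K := Nat.finite_of_card_ne_zero (by rw [hK]; norm_num)
  have := Fintype.ofFinite K
  have hp : Fact (Nat.Prime 3) := ⟨Nat.prime_three⟩
  exact ⟨FiniteField.ringEquivOfCardEq (by rw [← Nat.card_eq_fintype_card, hK, ZMod.card])⟩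

end Cfsg.Agent.H194.F43
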